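import Cfsg.Agent.Lib.LeechCount.Co2Out.Gen
import Cfsg.Agent.Lib.LeechCount.Co3Out.Main

/-!
Every automorphism of the stabiliser of a minimal vector is inner.
-/

set_option autoImplicit false

namespace Cfsg.Agent.LeechCount.Co2Out

open Cfsg Cfsg.Agent.Leech Cfsg.Agent.Golay24 Cfsg.Agent.LeechCount.Co3Rank MulAction
open Cfsg.Agent.LeechCount.Co3Out (outHyp_rels card_out_congr a_inM24)

noncomputable section

attribute [local irreducible] normFS dotFS

theorem gA_order : orderOf gA = 23 := by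
  rw [gA, orderOf_injective iota iota_injective, (outHyp_rels m23OutHyp).1]; rfl

theorem gA_rel : gB * gA = gA ^ 2 * gB := by
  rw [gA, gB, ← map_pow, ← map_mul, ← map_mul]; exact congrArg iota (outHyp_rels m23OutHyp).2.1

theorem gB_rel : gC * gB = gB ^ 3 * gC := by
  rw [gB, gC, ← map_pow, ← map_mul, ← map_mul]; exact congrArg iota Co3Out.cB_rel

theorem gB_pow11 : gB ^ 11 = 1 := by
  rw [gB, ← map_pow, show m23OutHyp.B ^ 11 = 1 from ?_, map_one]
  apply Subtype.ext
  rw [Subgroup.coe_pow, show (m23OutHyp.B : Equiv.Perm GolayPt) = toPerm m23Out.b from rfl, OneMemClass.coe_one]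
  obtain ⟨hv, he⟩ := toPerm_powP' (valid_of_inM24 a_inM24.2) (by norm_num : 0 < 11)
  exact he.symm.trans (toPerm_eq_one_of_isIdP hv (by decide +kernel))

theorem gB_pow_mod (i : ℕ) : gB ^ i = gB ^ (i % 11) := by
  conv_lhs => rw [← Nat.div_add_mod i 11, pow_add, pow_mul, gB_pow11, one_pow, one_mul]

theorem gB_ne_one : gB ≠ 1 := by
  have h : wEl [stB] ≠ 1 := wEl_ne_one (k := 1) (by decide +kernel)
  rwa [wEl_one, stB_el] at h

/-- The elements inducing the cube on the element of order 11. -/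
theorem normaliser_gB (g : ↥G2) (hg : g * gB = gB ^ 3 * g) : ∃ i < 11, g = gB ^ i * gC := by
  have hs : gB = (gB ^ 3) ^ 4 := by
    rw [← pow_mul, show 3 * 4 = 11 + 1 by norm_num, pow_succ, gB_pow11, one_mul]
  have h1 : gC⁻¹ * gB = gB ^ 4 * gC⁻¹ := by
    have e : gC * gB ^ 4 * gC⁻¹ = gB := by
      rw [← conj_pow, show gC * gB * gC⁻¹ = gB ^ 3 by rw [gB_rel, mul_inv_cancel_right], ← hs]
    calc gC⁻¹ * gB = gC⁻¹ * (gC * gB ^ 4 * gC⁻¹) := by rw [e]
      _ = gB ^ 4 * gC⁻¹ := by group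
  have h2 : g * gB ^ 4 = gB * g := by
    have e : g * gB * g⁻¹ = gB ^ 3 := by rw [hg, mul_inv_cancel_right]
    calc g * gB ^ 4 = g * gB ^ 4 * g⁻¹ * g := by group
      _ = (g * gB * g⁻¹) ^ 4 * g := by rw [conj_pow]
      _ = gB * g := by rw [e, ← hs]
  obtain ⟨i, hi⟩ := centraliser_b (g * gC⁻¹) (by rw [mul_assoc, h1, ← mul_assoc, h2, mul_assoc])
  refine ⟨i % 11, Nat.mod_lt _ (by norm_num), ?_⟩
  rw [← gB_pow_mod, ← hi, inv_mul_cancel_right]

theorem range_eq_closure : iota.range = Subgroup.closure ({gA, gB, gC} : Set ↥G2) := by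
  rw [MonoidHom.range_eq_map, ← m23OutHyp.gen_top, MonoidHom.map_closure]
  congr 1
  simp only [Set.image_insert_eq, Set.image_singleton]

/-- Every automorphism is inner. -/
theorem aut_inner (φ : MulAut ↥G2) : φ ∈ Inn ↥G2 := by
  have := Fact.mk (show Nat.Prime 23 by norm_num)
  have hfac : (Nat.card ↥G2).factorization 23 = 1 :=
    factorization_eq_one (m := 1839366144000) (by norm_num) (by rw [card_G2]) (by norm_num)
  obtain ⟨h, kk, -, g, hg, e1, e2, e3⟩ := aut_normal_form (r := 2) (s := 3) (ks := [1, 5])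
    (L := (List.range 11).map fun i => gB ^ i * gC) hfac gA_order
    (fun k h0 hk => (show ∀ k < 23, 0 < k → ∃ i < 11, ∃ kk ∈ ([1, 5] : List ℕ), k * 2 ^ i % 23 = kk % 23 by
      decide +kernel) k hk h0 |>.imp fun i hi => hi.2)
    gA_rel normaliser_a gB_rel
    (fun g hg => by
      obtain ⟨i, hi, hor⟩ := normaliser_gB g hg
      exact List.mem_map.2 ⟨i, List.mem_range.2 hi, hor.symm⟩) φ
  generalize hχ : MulAut.conj h * φ = χ at e1 e2 e3
  suffices hin : χ ∈ Inn ↥G2 by
    have : φ = (MulAut.conj h)⁻¹ * χ := by rw [← hχ, inv_mul_cancel_left]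
    rw [this]
    exact (Inn ↥G2).mul_mem ((Inn ↥G2).inv_mem ⟨h, rfl⟩) hin
  obtain ⟨i0, -, rfl⟩ := List.mem_map.1 hg
  -- the Mathieu group is preserved
  have hle : iota.range.map χ.toMonoidHom ≤ iota.range := by
    conv_lhs => rw [range_eq_closure, MonoidHom.map_closure]
    rw [Subgroup.closure_le]
    rintro x ⟨y, (rfl | rfl | rfl), rfl⟩
    · show χ gA ∈ iota.range
      rw [e1]; exact iota.range.pow_mem ⟨_, rfl⟩ _
    · show χ gB ∈ iota.range
      rw [e2]; exact ⟨_, rfl⟩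
    · show χ gC ∈ iota.range
      rw [e3]; exact iota.range.mul_mem (iota.range.pow_mem ⟨_, rfl⟩ _) ⟨_, rfl⟩
  have hmap : iota.range.map χ.toMonoidHom = iota.range :=
    Subgroup.eq_of_le_of_card_ge hle (le_of_eq (Nat.card_congr (χ.subgroupMap iota.range).toEquiv))
  let e : ↥Spor.M23 ≃* ↥iota.range := MonoidHom.ofInjective iota_injective
  let ρ : MulAut ↥Spor.M23 :=
    (e.trans ((χ.subgroupMap iota.range).trans (MulEquiv.subgroupCongr hmap))).trans e.symm
  have hρ : ∀ x, iota (ρ x) = χ (iota x) := fun x =>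
    congrArg Subtype.val (e.apply_symm_apply ((χ.subgroupMap iota.range).trans (MulEquiv.subgroupCongr hmap) (e x)))
  have hsub : Subsingleton (Cfsg.Out ↥Spor.M23) :=
    (Nat.card_eq_one_iff_unique.1 card_out_M23).1
  obtain ⟨u, hu⟩ : ρ ∈ Inn ↥Spor.M23 := (QuotientGroup.eq_one_iff ρ).1 (Subsingleton.elim _ _)
  set χ' : MulAut ↥G2 := (MulAut.conj (iota u))⁻¹ * χ with hχ'
  have hfix : ∀ x, χ' (iota x) = iota x := fun x => by
    show (iota u)⁻¹ * χ (iota x) * iota u = iota x
    rw [← hρ, ← hu, MulAut.conj_apply, map_mul, map_mul, map_inv]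
    group
  -- the involution is fixed
  have hd : χ' dG = dG := by
    have hb : χ' dG * gB = gB ^ 10 * χ' dG := by
      have h1 := congrArg χ' d_inv_b
      rwa [map_mul, map_mul, map_pow, show χ' gB = gB from hfix _] at h1
    have hc : χ' dG * gC = gC * χ' dG := by
      have h1 := congrArg χ' d_comm_c
      rwa [map_mul, map_mul, show χ' gC = gC from hfix _] at h1
    have h10 : (gB ^ 10) ^ 10 = gB := by
      rw [← pow_mul, show 10 * 10 = 11 * 9 + 1 by norm_num, pow_succ, pow_mul, gB_pow11, one_pow, one_mul]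
    have hd' : dG * gB ^ 10 = gB * dG := by
      have e : (dG * gB * dG⁻¹) ^ 10 = gB := by rw [d_inv_b, mul_inv_cancel_right, h10]
      rw [conj_pow] at e
      calc dG * gB ^ 10 = dG * gB ^ 10 * dG⁻¹ * dG := by group
        _ = gB * dG := by rw [e]
    obtain ⟨i, hi⟩ := centraliser_b (dG * χ' dG) (by rw [mul_assoc, hb, ← mul_assoc, hd', mul_assoc])
    have hi' : χ' dG = dG * gB ^ i := by rw [← hi, ← mul_assoc, dG_sq, one_mul]
    have hcb : gC * gB ^ i = gB ^ i * gC := by
      rw [hi', mul_assoc] at hc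
      rw [← mul_assoc gC, ← d_comm_c, mul_assoc] at hc
      exact (mul_left_cancel hc).symm
    have h3 : gB ^ (2 * i) = 1 := by
      have e : gC * gB ^ i * gC⁻¹ = (gB ^ 3) ^ i := by
        rw [← conj_pow, gB_rel, mul_inv_cancel_right]
      rw [hcb, mul_inv_cancel_right, ← pow_mul, show 3 * i = i + 2 * i by ring, pow_add] at e
      exact (mul_eq_left.1 e.symm)
    rw [hi', show gB ^ i = (gB ^ (2 * i)) ^ 6 by
      rw [← pow_mul, show 2 * i * 6 = 11 * i + i by ring, pow_add, pow_mul, gB_pow11, one_pow, one_mul], h3,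
      one_pow, mul_one]
  have hone : χ' = 1 := by
    have := MonoidHom.eq_of_eqOn_dense K2_top (f := χ'.toMonoidHom) (g := MonoidHom.id _) (by
      rintro x (rfl | rfl | rfl | rfl)
      exacts [hfix _, hfix _, hfix _, hd])
    exact MulEquiv.ext fun x => DFunLike.congr_fun this x
  rw [hχ', inv_mul_eq_one] at hone
  exact ⟨iota u, hone⟩

theorem co2_subgroupOf : Spor.Co2.subgroupOf Co0 = co2G := by
  ext g
  constructor
  · intro h
    exact (Subgroup.mem_inf.1 (Subgroup.mem_subgroupOf.1 h)).2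
  · intro h
    exact Subgroup.mem_subgroupOf.2 (Subgroup.mem_inf.2 ⟨g.2, h⟩)

/-- The frozen group as the stabiliser of the chosen vector. -/
def co2Equiv : ↥Spor.Co2 ≃* ↥co2G :=
  (Subgroup.subgroupOfEquivOfLe (show Spor.Co2 ≤ Co0 from inf_le_left)).symm.trans
    (MulEquiv.subgroupCongr co2_subgroupOf)

theorem card_out : Nat.card (Cfsg.Out ↥Spor.Co2) = 1 := by
  obtain ⟨g, hg⟩ := coEq_of_norm32 oddMin_leech vecU_mem oddMin_latM.2.2 vecU_norm
  rw [card_out_congr (co2Equiv.trans (stabilizerEquivStabilizer ((smul_eq_iff_ap g U0 co2U).2 hg).symm).symm)]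
  exact card_out_eq_one aut_inner

end

end Cfsg.Agent.LeechCount.Co2Out
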