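import Cfsg.Agent.Lib.LeechCount.Co2Out.Word

/-!
The normaliser relations of elements of order 23 and 11 in the stabiliser of an odd minimal vector.
-/

set_option autoImplicit false

namespace Cfsg.Agent.LeechCount.Co2Out

open Cfsg Cfsg.Agent.Leech Cfsg.Agent.Golay24 Cfsg.Agent.LeechCount.Co3Rank MulAction
open Cfsg.Agent.LeechCount.Co3Out (ext_e8 ap_perm_inv iterate_const fixed_app a_inM24 cycle_a a_pow23 jA_check
  bCls bPos cycle_b fourVec four_formulas cB_rel centraliser_b_M23)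

noncomputable section

attribute [local irreducible] normFS dotFS

/-- The element of order 23. -/
abbrev gA : ↥G2 := iota m23OutHyp.A

/-- The element of order 11. -/
abbrev gB : ↥G2 := iota m23OutHyp.B

/-- The element normalising the second. -/
abbrev gC : ↥G2 := iota m23OutHyp.C

theorem gA_val : (gA : ↥Co0) = permCo (toPerm m23Out.a) (toPerm_mem_M24 a_inM24.1) := rfl

theorem gB_val : (gB : ↥Co0) = permCo (toPerm m23Out.b) (toPerm_mem_M24 a_inM24.2) := rfl

theorem oddMin_eq : oddMin = -Spor.vecV - e8 none := by decide +kernel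

theorem dot_oddMin (y : Vec) : dotInt oddMin y = -dotInt Spor.vecV y - 8 * y none := by
  rw [oddMin_eq, ← dot_e8 y none, dot_comm y (e8 none)]
  simp only [dotInt, Pi.sub_apply, Pi.neg_apply, sub_mul, neg_mul, Finset.sum_sub_distrib,
    Finset.sum_neg_distrib]

theorem dot_oddMin_e8 : dotInt oddMin (e8 none) = -24 := by decide +kernel

/-- The image of the coordinate vector. -/
theorem image_facts {g : ↥Co0} (hg : g ∈ G2) :
    ap g (e8 none) ∈ leechLattice ∧ sqNorm (ap g (e8 none)) = 64 ∧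
      dotInt oddMin (ap g (e8 none)) = -24 := by
  refine ⟨ap_mem g (e8_mem none), (ap_norm g (e8_mem none)).trans (e8_norm none), ?_⟩
  conv_lhs => rw [← mem_G2.1 hg]
  rw [ap_dot g oddMin_leech (e8_mem none), dot_oddMin_e8]

/-- An element of the stabiliser fixing the coordinate vector lies in the Mathieu group. -/
theorem mem_iota_of_fix {g : ↥G2} (he : ap (g : ↥Co0) (e8 none) = e8 none) : ∃ σ, g = iota σ := by
  obtain ⟨σ, S, hσ, -, happ⟩ := stab_e8 (g : ↥Co0) (by rw [he]; exact Cong.refl _)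
  have hu := mem_G2.1 g.2
  rw [happ _ oddMin_leech] at hu
  have hn : σ none = none := by
    have h1 := congrFun (he.symm.trans (happ _ (e8_mem none))) (σ none)
    simp only [mono, Equiv.symm_apply_apply, e8, if_true] at h1
    by_contra hne
    rw [if_neg hne] at h1
    split at h1 <;> omega
  have hS : ∀ i, i ∉ S := fun i hi => by
    have := congrFun hu i
    simp only [mono, hi, if_true] at this
    have h2 : σ.symm i = none ↔ i = none := by rw [Equiv.symm_apply_eq, hn]
    simp only [oddMin, h2] at this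
    split at this <;> omega
  refine ⟨⟨σ, hσ, hn⟩, Subtype.ext (ext_e8 fun i => ?_)⟩
  rw [iota_val, happ _ (e8_mem i)]
  funext j
  rw [ap_permCo _ (e8_mem i)]
  simp [mono, hS]

/-- A fixed vector of the element of order 23 with these invariants is the coordinate vector. -/
theorem fixed_a {y : Vec} (hy : y ∈ leechLattice) (hn : sqNorm y = 64) (hd : dotInt oddMin y = -24)
    (hf : ap (gA : ↥Co0) y = y) : y = e8 none := by
  rw [gA_val] at hf
  have hc : ∀ i, i ≠ none → y i = y (some 0) := fun i hi => by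
    obtain ⟨k, hk⟩ := (cycle_a i).resolve_left hi
    rw [← hk, iterate_const (fixed_app a_inM24.1 hy hf)]
  have e1 : sqNorm y = y none ^ 2 + 23 * y (some 0) ^ 2 := by
    rw [sqNorm, Fintype.sum_option, Finset.sum_congr rfl fun i _ => by rw [hc (some i) (by simp)]]
    simp [ZMod.card]
  have e2 : dotInt oddMin y = -3 * y none + 23 * y (some 0) := by
    rw [dotInt, Fintype.sum_option, Finset.sum_congr rfl fun i _ => by rw [hc (some i) (by simp)]]
    simp [oddMin, ZMod.card]
  rw [hn] at e1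
  rw [hd] at e2
  have h1 : -1 ≤ y (some 0) ∧ y (some 0) ≤ 1 := by constructor <;> nlinarith [sq_nonneg (y none)]
  have h0 : y (some 0) = 0 ∧ y none = 8 := by omega
  funext i
  rcases eq_or_ne i none with rfl | hi
  · simp [e8, h0.2]
  · rw [hc i hi, h0.1]; simp [e8, hi]

theorem pow_fix {g : ↥G2} {y : Vec} (hy : y ∈ leechLattice) (h : ap (g : ↥Co0) y = y) :
    ∀ n : ℕ, ap ((g ^ n : ↥G2) : ↥Co0) y = y
  | 0 => by rw [pow_zero]; exact ap_one y
  | n + 1 => by rw [pow_succ, Subgroup.coe_mul, ap_mul _ _ hy, h, pow_fix hy h n]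

theorem fixed_of_rel {g h k : ↥G2} (hrel : g * h = k * g) {y : Vec} (hy : y ∈ leechLattice)
    (hfix : ap (h : ↥Co0) y = y) : ap (k : ↥Co0) (ap (g : ↥Co0) y) = ap (g : ↥Co0) y := by
  rw [← ap_mul _ _ hy, ← Subgroup.coe_mul, ← hrel, Subgroup.coe_mul, ap_mul _ _ hy, hfix]

theorem e8_fixed (σ : ↥Spor.M23) : ap (iota σ : ↥Co0) (e8 none) = e8 none := by
  funext i
  rw [iota_val, ap_permCo _ (e8_mem none)]
  have : σ.1.symm i = none ↔ i = none := by
    rw [Equiv.symm_apply_eq, show σ.1 none = none from σ.2.2]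
  simp [e8, this]

/-- The elements inducing the power on the element of order 23. -/
theorem normaliser_a (g : ↥G2) (hg : g * gA = gA ^ 2 * g) : ∃ j : ℕ, gA ^ j * g = gB * gA ^ j := by
  obtain ⟨hy, hn, hd⟩ := image_facts g.2
  have h2 : ap ((gA ^ 2 : ↥G2) : ↥Co0) (ap (g : ↥Co0) (e8 none)) = ap (g : ↥Co0) (e8 none) :=
    fixed_of_rel hg (e8_mem none) (e8_fixed _)
  have h24 : gA = (gA ^ 2) ^ 12 := by
    rw [← pow_mul, show 2 * 12 = 23 + 1 by norm_num, pow_succ, ← map_pow, a_pow23, map_one, one_mul]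
  have h1 : ap (gA : ↥Co0) (ap (g : ↥Co0) (e8 none)) = ap (g : ↥Co0) (e8 none) := by
    rw [h24]; exact pow_fix hy h2 12
  obtain ⟨σ, rfl⟩ := mem_iota_of_fix (fixed_a hy hn hd h1)
  have hσ : σ * m23OutHyp.A = m23OutHyp.A ^ 2 * σ := iota_injective (by simpa using hg)
  have hs : m23Out.cA.a = m23Out.a ∧ m23Out.cA.a' = powP m23Out.a 2 := by decide +kernel
  have hav := valid_of_inM24 a_inM24.1
  obtain ⟨g0, hg0, he0⟩ := m23Out.cA.sound m23OutHyp.okA m23OutHyp.mem m23OutHyp.le m23OutHyp.hfix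
    m23OutHyp.hsets m23OutHyp.finA σ.2 (by
      rw [hs.1, hs.2, (toPerm_powP' hav (by norm_num : 0 < 2)).2]
      exact congrArg Subtype.val hσ)
  obtain ⟨i, hi, rfl⟩ := List.mem_iff_getElem.1 hg0
  obtain ⟨hj0, hje⟩ := jA_check i hi
  rw [List.getD_eq_getElem _ _ hi] at hje
  obtain ⟨hjv, hjp⟩ := toPerm_powP' hav hj0
  have hvA : ∀ s ∈ m23Out.cA.sols, validP s = true := by decide +kernel
  refine ⟨m23Out.jA.getD i 0, ?_⟩
  rw [← map_pow, ← map_mul, ← map_mul]
  congr 1
  apply Subtype.ext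
  show ((m23OutHyp.A ^ m23Out.jA.getD i 0 : ↥Spor.M23) : Equiv.Perm GolayPt) * σ.1 =
    toPerm m23Out.b * ((m23OutHyp.A ^ m23Out.jA.getD i 0 : ↥Spor.M23) : Equiv.Perm GolayPt)
  rw [Subgroup.coe_pow, show (m23OutHyp.A : Equiv.Perm GolayPt) = toPerm m23Out.a from rfl, ← hjp, he0]
  exact mul_eq_of_compP hjv (hvA _ hg0) (valid_of_inM24 a_inM24.2) hjv hje

theorem four_cases : ∀ p ∈ Finset.Icc (-8 : ℤ) 8, ∀ q ∈ Finset.Icc (-8 : ℤ) 8,
    ∀ A ∈ Finset.Icc (-2 : ℤ) 2, ∀ B ∈ Finset.Icc (-2 : ℤ) 2,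
    p ^ 2 + q ^ 2 + 11 * A ^ 2 + 11 * B ^ 2 = 64 → -3 * p + q + 11 * A + 11 * B = -24 →
      (p, q, A, B) = (8, 0, 0, 0) ∨ (p, q, A, B) = (2, 4, -2, 0) ∨ (p - q) % 2 = 1 ∨
        (p, q, A, B) = (2, 4, 0, -2) := by
  decide +kernel

theorem dFun_e8 : fourVec 2 4 (-2) 0 = dFun (e8 none) := by decide +kernel

/-- A fixed vector of the element of order 11 with these invariants is one of two. -/
theorem fixed_b {y : Vec} (hy : y ∈ leechLattice) (hn : sqNorm y = 64) (hd : dotInt oddMin y = -24)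
    (hf : ap (gB : ↥Co0) y = y) : y = e8 none ∨ y = ap dEl (e8 none) := by
  rw [gB_val] at hf
  have hrep : ∀ i, y i = y (ptN (bCls i)) := fun i => by
    conv_lhs => rw [← cycle_b i]
    exact iterate_const (fixed_app a_inM24.2 hy hf) _ _
  have hval : ∀ i : GolayPt, bCls i ∈ ({23, 0, 1, 4} : Finset ℕ) := by decide +kernel
  have hpt : ptN 23 = none ∧ ptN 0 = some 0 := by decide +kernel
  set p := y (ptN 23) with hp'
  set q := y (ptN 0) with hq'
  set A := y (ptN 1)
  set B := y (ptN 4)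
  have hy4 : y = fourVec p q A B := funext fun i => by
    rw [hrep i]
    have := hval i
    simp only [Finset.mem_insert, Finset.mem_singleton] at this
    rcases this with h | h | h | h <;> simp [fourVec, h, p, q, A, B]
  obtain ⟨f1, f2⟩ := four_formulas p q A B
  rw [← hy4, hn] at f1
  rw [← hy4] at f2
  rw [dot_oddMin, f2, show y none = p by rw [hp', hpt.1]] at hd
  have hp : -8 ≤ p ∧ p ≤ 8 := by constructor <;> nlinarith [sq_nonneg q, sq_nonneg A, sq_nonneg B]
  have hq : -8 ≤ q ∧ q ≤ 8 := by constructor <;> nlinarith [sq_nonneg p, sq_nonneg A, sq_nonneg B]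
  have hA : -2 ≤ A ∧ A ≤ 2 := by constructor <;> nlinarith [sq_nonneg p, sq_nonneg q, sq_nonneg B]
  have hB : -2 ≤ B ∧ B ≤ 2 := by constructor <;> nlinarith [sq_nonneg p, sq_nonneg q, sq_nonneg A]
  rcases four_cases p (Finset.mem_Icc.2 hp) q (Finset.mem_Icc.2 hq) A (Finset.mem_Icc.2 hA) B
    (Finset.mem_Icc.2 hB) f1.symm (by omega) with h | h | h | h
  · simp only [Prod.mk.injEq] at h
    obtain ⟨e1, e2, e3, e4⟩ := h
    rw [hy4, e1, e2, e3, e4]
    exact Or.inl (by decide +kernel)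
  · simp only [Prod.mk.injEq] at h
    obtain ⟨e1, e2, e3, e4⟩ := h
    rw [hy4, e1, e2, e3, e4]
    exact Or.inr (by rw [ap_dEl (e8_mem none), dFun_e8])
  · exfalso
    rw [hp', hq', hpt.1, hpt.2] at h
    rcases exists_witness hy with h0 | h0 <;>
      (have h1 := h0.1 none; have h2 := h0.1 (some 0); omega)
  · exfalso
    simp only [Prod.mk.injEq] at h
    obtain ⟨e1, e2, e3, e4⟩ := h
    rw [hy4, e1, e2, e3, e4] at hy
    rcases exists_witness hy with h0 | h0
    · have hbad : inCode (maskOf (pat 0 (fourVec 2 4 0 (-2)))) = false := by decide +kernel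
      exact Bool.false_ne_true (hbad.symm.trans (mem_supports_iff_inCode.1 h0.2.2))
    · have := h0.1 none
      rw [show fourVec 2 4 0 (-2) none = 2 by decide +kernel] at this
      omega

/-- No point permutation of the subgroup inverts the element of order 11. -/
def cBInv : EqCert where
  a := m23Out.b
  a' := powP m23Out.b 10
  x := 1
  n := 11
  leaves := [
    .clash 11 12,
    .octBad [0, 1, 2, 3, 4] 8925710 8989058 6,
    .octBad [0, 1, 2, 3, 4] 8925710 12222476 6,
    .octBad [0, 1, 2, 3, 4] 8925710 8925710 6,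
    .octBad [0, 1, 2, 3, 4] 8925710 8654232 6,
    .octBad [0, 1, 2, 3, 4] 8925710 9701932 6,
    .octBad [0, 1, 2, 3, 4] 8925710 9503954 6,
    .octBad [0, 1, 2, 3, 4] 8925710 11469952 6,
    .octBad [0, 1, 2, 3, 4] 8925710 8592704 6,
    .octBad [0, 1, 2, 3, 4] 8925710 10021376 6,
    .octBad [0, 1, 2, 3, 4] 8925710 14949408 6,
    .octBad [0, 1, 2, 3, 4] 8925710 10619300 6,
    .octBad [0, 1, 2, 3, 4] 8925710 8474906 6,
    .octBad [0, 1, 2, 3, 4] 8925710 8401364 6,
    .octBad [0, 1, 2, 3, 4] 8925710 8937586 6,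
    .octBad [0, 1, 2, 3, 4] 8925710 8581192 6,
    .octBad [0, 1, 2, 3, 4] 8925710 8849458 6,
    .octBad [0, 1, 2, 3, 4] 8925710 13829156 6,
    .octBad [0, 1, 2, 3, 4] 8925710 15073798 6,
    .octBad [0, 1, 2, 3, 4] 8925710 9998658 6,
    .octBad [0, 1, 2, 3, 4] 8925710 14176296 6,
    .octBad [0, 1, 2, 3, 4] 8925710 15762208 6,
    .octBad [0, 1, 2, 3, 4] 8925710 12698124 6,
    .clash 11 12]
  sols := []

theorem cBInv_ok : cBInv.ok m23OutHyp.inH m23OutHyp.fix m23OutHyp.sets = true := by decide +kernel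

theorem no_inverse (σ : ↥Spor.M23) (h : σ * m23OutHyp.B = m23OutHyp.B ^ 10 * σ) : False := by
  obtain ⟨g0, hg0, -⟩ := cBInv.sound cBInv_ok m23OutHyp.mem m23OutHyp.le m23OutHyp.hfix m23OutHyp.hsets
    (fun g hg hF => m23OutHyp.finB g hg hF) σ.2 (by
      rw [show cBInv.a = m23Out.b from rfl, show cBInv.a' = powP m23Out.b 10 from rfl,
        (toPerm_powP' (valid_of_inM24 a_inM24.2) (by norm_num : 0 < 10)).2]
      exact congrArg Subtype.val h)
  simp [cBInv] at hg0

/-- A packed permutation as a letter. -/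
def stB : Stp := .perm m23Out.b bInv

/-- A packed permutation as a letter. -/
def stC : Stp := .perm m23Out.c cInv

theorem stB_el : stB.el = gB := by
  obtain ⟨h', he⟩ := Stp.el_perm (show stB.ok = true by decide +kernel)
  exact he.trans rfl

theorem stC_el : stC.el = gC := by
  obtain ⟨h', he⟩ := Stp.el_perm (show stC.ok = true by decide +kernel)
  exact he.trans rfl

theorem wEl_one (s : Stp) : wEl [s] = s.el := by simp [wEl]

theorem d_comm_c : dG * gC = gC * dG := by
  have h : wEl [Stp.d, stC] = wEl [stC, Stp.d] := wEl_eq (by decide +kernel)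
  rw [← stC_el]
  simp only [wEl, List.map_cons, List.map_nil, List.prod_cons, List.prod_nil, mul_one] at h
  exact h

theorem d_inv_b : dG * gB = gB ^ 10 * dG := by
  have h : wEl [Stp.d, stB] = wEl (wPow [stB] 10 ++ [Stp.d]) := wEl_eq (by decide +kernel)
  rw [wEl_append, wEl_pow, wEl_one, wEl_one, stB_el] at h
  simp only [wEl, List.map_cons, List.map_nil, List.prod_cons, List.prod_nil, mul_one, stB_el] at h
  exact h

theorem dG_sq : dG * dG = 1 := Subtype.ext dEl_sq

/-- The centraliser of the element of order 11. -/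
theorem centraliser_b (g : ↥G2) (hg : g * gB = gB * g) : ∃ i : ℕ, g = gB ^ i := by
  obtain ⟨hy, hn, hd⟩ := image_facts g.2
  rcases fixed_b hy hn hd (fixed_of_rel hg (e8_mem none) (e8_fixed _)) with h | h
  · obtain ⟨σ, rfl⟩ := mem_iota_of_fix h
    obtain ⟨i, rfl⟩ := centraliser_b_M23 σ (iota_injective (by simpa using hg))
    exact ⟨i, map_pow _ _ _⟩
  · exfalso
    obtain ⟨σ, hσ⟩ := mem_iota_of_fix (g := dG * g) (by
      rw [Subgroup.coe_mul, dG_val, ap_mul _ _ (e8_mem none), h, ← ap_mul _ _ (e8_mem none), dEl_sq, ap_one])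
    refine no_inverse σ (iota_injective ?_)
    rw [map_mul, map_mul, map_pow, ← hσ, mul_assoc, hg, ← mul_assoc, d_inv_b, mul_assoc]

end

end Cfsg.Agent.LeechCount.Co2Out
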