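import Cfsg.Agent.Lib.LeechCount.Co3Rank.Cert

/-! Data for one automorphism outside the stabiliser of the frame (produced by an offline script). -/

set_option autoImplicit false

namespace Cfsg.Agent.LeechCount.Co2Out

noncomputable section

/-- Sextet labels. -/
def dLab1 : List (Fin 6) := [1, 1, 1, 0, 3, 0, 3, 2, 3, 5, 4, 4, 5, 4, 1, 2, 5, 0, 2, 4, 3, 5, 2, 0]

/-- Sextet labels. -/
def dLab2 : List (Fin 6) := [0, 3, 2, 0, 2, 4, 3, 5, 0, 2, 3, 4, 5, 3, 1, 1, 4, 5, 1, 5, 1, 2, 4, 0]

/-- Sextet labels. -/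
def dLab3 : List (Fin 6) := [0, 0, 0, 2, 1, 2, 3, 3, 5, 4, 4, 5, 5, 1, 2, 4, 1, 2, 5, 3, 4, 3, 1, 0]

/-- The sign set. -/
def dSgn : ℕ := 16777215

/-- The permutation. -/
def dPerm : ℕ := 971335429945304946155059356453214275

/-- Its inverse. -/
def dPermInv : ℕ := 974262350928721157918223379936052624

/-- The inverse of the second generator. -/
def bInv : ℕ := 967962020449459705618078602616230144

/-- The inverse of the third generator. -/
def cInv : ℕ := 965040046192139784698016584727674912

end

end Cfsg.Agent.LeechCount.Co2Out
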