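import Cfsg.Agent.Lib.LeechCount.Co2Out.Data
import Cfsg.Agent.Lib.LeechCount.Co3Out.Centraliser

/-!
The point stabiliser of the 24 points inside the stabiliser of an odd minimal vector, and one involution
outside it.
-/

set_option autoImplicit false

namespace Cfsg.Agent.LeechCount.Co2Out

open Cfsg Cfsg.Agent.Leech Cfsg.Agent.Golay24 Cfsg.Agent.LeechCount.Co3Rank MulAction
open Cfsg.Agent.LeechCount.Co3Out (ext_e8 permHom24 permHom24_injective ap_perm_inv)

noncomputable section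

attribute [local irreducible] normFS dotFS

theorem oddMin_leech : oddMin ∈ leechLattice := (mem_leech_iff _).2 ⟨1, oddMin_latM.1⟩

/-- The fixed minimal vector. -/
def U0 : ↥leechLattice := ⟨oddMin, oddMin_leech⟩

theorem oddMin_perm {σ : Equiv.Perm GolayPt} (hσ : σ none = none) (i : GolayPt) :
    oddMin (σ.symm i) = oddMin i := by
  have : σ.symm i = none ↔ i = none := by rw [Equiv.symm_apply_eq, hσ]
  simp [oddMin, this]

/-- The stabiliser of the minimal vector. -/
def G2 : Subgroup ↥Co0 := stabilizer ↥Co0 U0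

theorem mem_G2 {g : ↥Co0} : g ∈ G2 ↔ ap g oddMin = oddMin := smul_eq_iff_ap g U0 U0

theorem perm_mem_G2 {σ : Equiv.Perm GolayPt} (h : σ ∈ M24) (hσ : σ none = none) : permCo σ h ∈ G2 :=
  mem_G2.2 (funext fun i => by rw [ap_permCo h oddMin_leech, oddMin_perm hσ])

/-- The Mathieu group inside. -/
def iota : ↥Spor.M23 →* ↥G2 :=
  (permHom24.comp (Subgroup.inclusion inf_le_left)).codRestrict G2 fun σ => perm_mem_G2 σ.2.1 σ.2.2

theorem iota_val (σ : ↥Spor.M23) : (iota σ : ↥Co0) = permCo σ.1 σ.2.1 := rfl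

theorem iota_injective : Function.Injective iota := fun σ τ h =>
  Subtype.ext (Subtype.mk.inj (permHom24_injective
    (show permHom24 ⟨σ.1, σ.2.1⟩ = permHom24 ⟨τ.1, τ.2.1⟩ from congrArg Subtype.val h)))

theorem dLab_ok : sxOk dLab1 ∧ sxOk dLab2 ∧ sxOk dLab3 := by unfold sxOk; decide +kernel

theorem dPerm_ok : inM24 dPerm = true ∧ ∀ i, appPt dPerm (appPt dPermInv i) = i := by decide +kernel

theorem dSgn_inC : Leech.InC (Golay24.setOf dSgn) := mem_supports_iff_inCode.2 (by decide +kernel)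

/-- The involution as a function. -/
def dFun (z : Vec) : Vec :=
  (sxOfList dLab1 dLab_ok.1).xi ((sxOfList dLab2 dLab_ok.2.1).xi ((sxOfList dLab3 dLab_ok.2.2).xi
    fun i => if i ∈ Golay24.setOf dSgn then -z (appPt dPermInv i) else z (appPt dPermInv i)))

/-- The involution outside the frame stabiliser. -/
def dEl : ↥Co0 := (sxOfList dLab1 dLab_ok.1).xiCo * (sxOfList dLab2 dLab_ok.2.1).xiCo *
  (sxOfList dLab3 dLab_ok.2.2).xiCo * signCo (Golay24.setOf dSgn) dSgn_inC *
  permCo (toPerm dPerm) (toPerm_mem_M24 dPerm_ok.1)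

theorem ap_dEl {z : Vec} (hz : z ∈ leechLattice) : ap dEl z = dFun z := by
  have h1 := ap_mem (permCo (toPerm dPerm) (toPerm_mem_M24 dPerm_ok.1)) hz
  have h2 := ap_mem (signCo (Golay24.setOf dSgn) dSgn_inC) h1
  have h3 := (sxOfList dLab3 dLab_ok.2.2).xi_mem h2
  have h4 := (sxOfList dLab2 dLab_ok.2.1).xi_mem h3
  rw [dEl, ap_mul _ _ hz, ap_mul _ _ h1, ap_mul _ _ h2, Sx.ap_xiCo _ h2, ap_mul _ _ h3, Sx.ap_xiCo _ h3,
    Sx.ap_xiCo _ h4, dFun]
  congr 3
  funext i
  rw [ap_signCo dSgn_inC h1, ap_permCo _ hz]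
  have : (toPerm dPerm).symm i = appPt dPermInv i := by
    rw [Equiv.symm_apply_eq, toPerm_apply (valid_of_inM24 dPerm_ok.1), dPerm_ok.2]
  rw [this]

theorem dEl_mem : dEl ∈ G2 := mem_G2.2 (by rw [ap_dEl oddMin_leech]; decide +kernel)

/-- The involution in the stabiliser. -/
def dG : ↥G2 := ⟨dEl, dEl_mem⟩

theorem dG_val : (dG : ↥Co0) = dEl := rfl

/-- An element of the Mathieu group from a packed permutation. -/
def mEl (p : ℕ) (h : (inM24 p && app p 23 == 23) = true) : ↥Spor.M23 := ⟨toPerm p, m23OutHyp.mem p h⟩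

theorem dEl_sq : dEl * dEl = 1 := ext_e8 fun i => by
  rw [ap_mul _ _ (e8_mem i), ap_one, ap_dEl (ap_mem _ (e8_mem i)), ap_dEl (e8_mem i)]
  revert i
  decide +kernel

end

end Cfsg.Agent.LeechCount.Co2Out
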