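import Cfsg.Agent.Lib.LeechCount.Co2Out.Reach
import Cfsg.Agent.Lib.LeechCount.Co2Out.Tables
import Cfsg.Agent.Lib.LeechCount.Co2Out.Centraliser
import Cfsg.Agent.Lib.LeechCount.Co2Group

/-!
The stabiliser of an odd minimal vector is generated by the Mathieu group and one involution.
-/

set_option autoImplicit false

namespace Cfsg.Agent.LeechCount.Co2Out

open Cfsg Cfsg.Agent.Leech Cfsg.Agent.Golay24 Cfsg.Agent.LeechCount.Co3Rank MulAction
open Cfsg.Agent.LeechCount.Co3Out (a_inM24)

noncomputable section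

attribute [local irreducible] normFS dotFS

theorem vecU_leech : Spor.vecU ∈ leechLattice := AddSubgroup.subset_closure Spor.vecU_mem_leechSet

/-- The second short vector. -/
def U1 : ↥leechLattice := ⟨Spor.vecU, vecU_leech⟩

/-- The stabiliser of the second short vector inside. -/
def SM : Subgroup ↥G2 := (stabilizer ↥Co0 U1).subgroupOf G2

theorem mem_SM {g : ↥G2} : g ∈ SM ↔ ap (g : ↥Co0) Spor.vecU = Spor.vecU := smul_eq_iff_ap _ U1 U1

theorem card_G2 : Nat.card ↥G2 = 42305421312000 := card_stab32 U0 oddMin_latM.2.2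

theorem card_SM : Nat.card ↥SM = 898128000 := by
  rw [SM, ← Subgroup.inf_subgroupOf_left, Nat.card_congr (Subgroup.subgroupOfEquivOfLe inf_le_left).toEquiv]
  exact (isMcL_stab (v := U0) (w := U1) oddMin_latM.2.2 (by show sqNorm Spor.vecU = 32; decide +kernel)
    (by show dotInt oddMin Spor.vecU = -8; decide +kernel)).2

theorem co0_finite : Finite ↥Co0 := Nat.finite_of_card_ne_zero (by rw [co0_card]; norm_num)

instance : Finite ↥G2 := have := co0_finite; inferInstance

/-- The point stabiliser inside. -/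
def iota22 : ↥Spor.M22 →* ↥G2 := iota.comp (Subgroup.inclusion inf_le_left)

theorem iota22_injective : Function.Injective iota22 :=
  iota_injective.comp (Subgroup.inclusion_injective _)

/-- The generators of degree 22. -/
abbrev hA : ↥G2 := iota22 m22OutHyp.A
/-- The generators of degree 22. -/
abbrev hB : ↥G2 := iota22 m22OutHyp.B
/-- The generators of degree 22. -/
abbrev hC : ↥G2 := iota22 m22OutHyp.C

theorem iota22_mem_SM (σ : ↥Spor.M22) : iota22 σ ∈ SM := mem_SM.2 (funext fun i => by
  show ap (permCo σ.1 σ.2.1.1) Spor.vecU i = _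
  rw [ap_permCo _ vecU_leech]
  have h0 : σ.1.symm i = none ↔ i = none := by rw [Equiv.symm_apply_eq, show σ.1 none = none from σ.2.1.2]
  have h1 : σ.1.symm i = some 0 ↔ i = some 0 := by
    rw [Equiv.symm_apply_eq, show σ.1 (some 0) = some 0 from σ.2.2]
  simp [Spor.vecU, h0, h1])

/-- The subgroup generated by the point stabiliser and one word. -/
def KM : Subgroup ↥G2 := Subgroup.closure ({hA, hB, hC, wEl zW} : Set ↥G2)

/-- The subgroup generated by the Mathieu group and the involution. -/
def K2 : Subgroup ↥G2 := Subgroup.closure ({gA, gB, gC, dG} : Set ↥G2)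

theorem iota_mem_K2 (σ : ↥Spor.M23) : iota σ ∈ K2 := by
  have h : σ ∈ Subgroup.comap iota K2 := by
    have hle : Subgroup.closure {m23OutHyp.A, m23OutHyp.B, m23OutHyp.C} ≤ Subgroup.comap iota K2 := by
      rw [Subgroup.closure_le]
      rintro x (rfl | rfl | rfl) <;> exact Subgroup.subset_closure (by simp [gA, gB, gC])
    exact hle (by rw [m23OutHyp.gen_top]; trivial)
  exact h

theorem iota22_mem_KM (σ : ↥Spor.M22) : iota22 σ ∈ KM := by
  have h : σ ∈ Subgroup.comap iota22 KM := by
    have hle : Subgroup.closure {m22OutHyp.A, m22OutHyp.B, m22OutHyp.C} ≤ Subgroup.comap iota22 KM := by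
      rw [Subgroup.closure_le]
      rintro x (rfl | rfl | rfl) <;> exact Subgroup.subset_closure (by simp [hA, hB, hC])
    exact hle (by rw [m22OutHyp.gen_top]; trivial)
  exact h

theorem el_mem_K2 : ∀ {w : List Stp}, wEl w ∈ K2
  | [] => K2.one_mem
  | s :: w => by
    rw [show wEl (s :: w) = s.el * wEl w from List.prod_cons]
    refine K2.mul_mem ?_ el_mem_K2
    cases s with
    | d => exact Subgroup.subset_closure (by simp [Stp.el])
    | perm p q =>
      simp only [Stp.el]
      split
      · exact iota_mem_K2 _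
      · exact K2.one_mem

theorem zW_ok : wOk zW = true := by decide +kernel

/-- The second short vector as a list. -/
def vUL : List ℤ := lstN (getSlot 96 co2Tab 0)

theorem vecU_list : vecOf vUL = Spor.vecU := by
  rw [vUL, vecOf_lstN]; decide +kernel

theorem zW_fixU : wL zW vUL = vUL := by decide +kernel

theorem zW_mem_SM : wEl zW ∈ SM := mem_SM.2 (by
  rw [← vecU_list, ap_wEl zW_ok (vecU_list ▸ vecU_leech), zW_fixU])

theorem KM_le_SM : KM ≤ SM := by
  rw [KM, Subgroup.closure_le]
  rintro x (rfl | rfl | rfl | rfl)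
  exacts [iota22_mem_SM _, iota22_mem_SM _, iota22_mem_SM _, zW_mem_SM]

/-- The generators of the point stabiliser, packed. -/
def gens22 : List ℕ := [m22Out.a, m22Out.b, m22Out.c]

theorem gens22_ok : ∀ g ∈ gens22, ∃ h : (inM24 g && app g 23 == 23) = true, iota (mEl g h) ∈ KM := by
  intro g hg
  have h : ∀ g ∈ gens22, (inM24 g && app g 23 == 23) = true ∧ app g 0 = 0 := by decide +kernel
  obtain ⟨h1, h2⟩ := h g hg
  refine ⟨h1, ?_⟩
  have h3 : toPerm g ∈ Spor.M22 := m22OutHyp.mem g (by
    simp only [Bool.and_eq_true, beq_iff_eq] at h1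
    simp [m22OutHyp, h1.1, h1.2, h2])
  exact iota22_mem_KM ⟨toPerm g, h3⟩

theorem e8_list : vecOf (e8L 23) = e8 none := e8L_eq none

theorem zW_e : wL zW (e8L 23) = lstN (getSlot 96 mclTab 0) := by decide +kernel

theorem mclTab_ok : tabOk gens22 [zW] mclTab mclTree mclSrt = true ∧ mclTree.length = 2023 := by
  decide +kernel

theorem mcl_first : vecN (getSlot 96 mclTab 0) = ap (wEl zW : ↥Co0) (e8 none) := by
  rw [← e8_list, ap_wEl zW_ok (e8_list ▸ e8_mem none), zW_e, vecOf_lstN]

theorem mcl_reach : (tabFS mclTab mclSrt).card = 2024 ∧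
    (∀ y ∈ tabFS mclTab mclSrt, Reach KM (e8 none) y) ∧
    ∀ k < 2024, Reach KM (e8 none) (vecN (getSlot 96 mclTab k)) := by
  have hz : wEl zW ∈ KM := Subgroup.subset_closure (by simp)
  have h1 : Reach KM (e8 none) (vecN (getSlot 96 mclTab 0)) := ⟨_, hz, mcl_first.symm⟩
  have hspec := tab_spec (K := KM) gens22_ok (links := [zW]) (fun w hw => by
    rw [List.mem_singleton] at hw; subst hw; exact ⟨zW_ok, hz⟩) (h1.mem (e8_mem none)) mclTab_ok.1
  obtain ⟨hc, hr, hk⟩ := hspec
  rw [mclTab_ok.2] at hc hk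
  exact ⟨hc, fun y hy => h1.trans (e8_mem none) (hr y hy), fun k h => h1.trans (e8_mem none) (hk k h)⟩

theorem e8_notMem : e8 none ∉ tabFS mclTab mclSrt := fun h => by
  rw [tabFS, List.mem_toFinset, List.mem_map] at h
  obtain ⟨k, -, hk⟩ := h
  have := congrFun hk none
  simp only [vecN, e8, if_true] at this
  have hlt : getSlot 4 (getSlot 96 mclTab k) (idx (none : GolayPt)).val < 16 :=
    Nat.lt_succ_of_le Nat.and_le_right
  omega

/-- The 2025 points. -/
def pts25 : Finset Vec := insert (e8 none) (tabFS mclTab mclSrt)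

theorem pts25_card : pts25.card = 2025 := by
  rw [pts25, Finset.card_insert_of_notMem e8_notMem, mcl_reach.1]

theorem range22_fix : ∀ s ∈ iota22.range, ap (s : ↥Co0) (e8 none) = e8 none := by
  rintro _ ⟨σ, rfl⟩; exact e8_fixed _

theorem pts25_reach : ∀ y ∈ pts25, Reach KM (e8 none) y := by
  intro y hy
  rcases Finset.mem_insert.1 hy with rfl | hy
  · exact Reach.refl _ _
  · exact mcl_reach.2.1 y hy

theorem card_range22 : Nat.card ↥iota22.range = 443520 := by
  rw [← Nat.card_congr (MonoidHom.ofInjective iota22_injective).toEquiv, card_M22]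

theorem range22_le : iota22.range ≤ KM := by rintro _ ⟨σ, rfl⟩; exact iota22_mem_KM σ

theorem KM_eq : KM = SM := by
  refine Subgroup.eq_of_le_of_card_ge KM_le_SM ?_
  rw [card_SM]
  have := count_le range22_le (e8_mem none) range22_fix pts25 pts25_reach
  rwa [pts25_card, card_range22] at this

theorem gens23_ok : ∀ g ∈ [m23Out.a, m23Out.b, m23Out.c],
    ∃ h : (inM24 g && app g 23 == 23) = true, iota (mEl g h) ∈ K2 := fun g hg =>
  ⟨(show ∀ g ∈ [m23Out.a, m23Out.b, m23Out.c], (inM24 g && app g 23 == 23) = true by decide +kernel) g hg,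
    iota_mem_K2 _⟩

theorem co2Tab_ok : tabOk [m23Out.a, m23Out.b, m23Out.c] [[Stp.d]] co2Tab co2Tree co2Srt = true ∧
    co2Tree.length = 1499 := by
  decide +kernel

theorem K2_reach : (tabFS co2Tab co2Srt).card = 1500 ∧
    ∀ y ∈ tabFS co2Tab co2Srt, Reach K2 Spor.vecU y := by
  have hl : ∀ w ∈ [[Stp.d]], wOk w = true ∧ wEl w ∈ K2 := fun w hw => by
    rw [List.mem_singleton] at hw; subst hw; exact ⟨rfl, el_mem_K2⟩
  have e : vecN (getSlot 96 co2Tab 0) = Spor.vecU := (vecOf_lstN _).symm.trans vecU_list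
  obtain ⟨hc, hr, -⟩ := tab_spec gens23_ok hl (e ▸ vecU_leech) co2Tab_ok.1
  rw [co2Tab_ok.2] at hc
  rw [e] at hr
  exact ⟨hc, hr⟩

theorem KM_le_K2 : KM ≤ K2 := by
  rw [KM, Subgroup.closure_le]
  rintro x (rfl | rfl | rfl | rfl)
  exacts [iota_mem_K2 _, iota_mem_K2 _, iota_mem_K2 _, el_mem_K2]

/-- A proper subgroup of small index does not exist in a simple group of order divisible by 23. -/
theorem top_of_small_index {G : Type*} [Group G] [Finite G] [IsSimpleGroup G] (K : Subgroup G)
    (h23 : 23 ∣ Nat.card G) (hK : K.index < 23) : K = ⊤ := by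
  rcases K.normalCore_normal.eq_bot_or_eq_top with h | h
  · exfalso
    rw [K.normalCore_eq_ker] at h
    have h1 := Subgroup.card_dvd_of_injective (toPermHom G (G ⧸ K)) ((MonoidHom.ker_eq_bot_iff _).1 h)
    rw [Nat.card_perm] at h1
    exact absurd (((by norm_num : Nat.Prime 23)).dvd_factorial.1 (h23.trans h1)) (by
      rw [Subgroup.index] at hK; omega)
  · exact top_le_iff.1 (h.ge.trans K.normalCore_le)

/-- Generation of the vector stabiliser. -/
theorem K2_top : K2 = ⊤ := by
  haveI : IsSimpleGroup ↥G2 := (isCo2_stab (v := U0) oddMin_latM.2.2).1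
  refine top_of_small_index K2 (by rw [card_G2]; norm_num) ?_
  have hle : SM ≤ K2 := KM_eq ▸ KM_le_K2
  have h1 := count_le hle vecU_leech (fun s hs => mem_SM.1 hs) _ K2_reach.2
  rw [K2_reach.1, card_SM] at h1
  have h2 : 898128000 ∣ Nat.card ↥K2 := card_SM ▸ Subgroup.card_dvd_of_le hle
  have h3 : 10200960 ∣ Nat.card ↥K2 := by
    rw [← card_M23]
    exact Subgroup.card_dvd_of_injective (iota.codRestrict K2 iota_mem_K2)
      fun a b h => iota_injective (congrArg Subtype.val h)
  have h4 := Nat.lcm_dvd h2 h3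
  rw [show Nat.lcm 898128000 10200960 = 20656944000 by decide +kernel] at h4
  obtain ⟨m, hm⟩ := h4
  have h5 := K2.card_mul_index
  rw [card_G2, hm] at h5
  have h6 : m * K2.index = 2048 := by
    have : 20656944000 * (m * K2.index) = 20656944000 * 2048 := by rw [← mul_assoc, h5]
    exact Nat.eq_of_mul_eq_mul_left (by norm_num) this
  have h7 : K2.index ∣ 2 ^ 11 := ⟨m, by rw [mul_comm, h6]; norm_num⟩
  obtain ⟨k, hk, hk'⟩ := (Nat.dvd_prime_pow Nat.prime_two).1 h7
  have h8 : 65 < m := by omega
  rw [hk'] at h6 ⊢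
  by_contra hc
  have h9 : 5 ≤ k := by
    by_contra h
    exact hc (lt_of_le_of_lt (Nat.pow_le_pow_right (by norm_num) (show k ≤ 4 by omega)) (by norm_num))
  nlinarith [Nat.pow_le_pow_right (show 1 ≤ 2 by norm_num) h9]

end

end Cfsg.Agent.LeechCount.Co2Out
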