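import Cfsg.Agent.Lib.LeechCount.Co2Out.Word

/-!
Orbit trees inside a subgroup of the stabiliser, with links by words.
-/

set_option autoImplicit false

namespace Cfsg.Agent.LeechCount.Co2Out

open Cfsg Cfsg.Agent.Leech Cfsg.Agent.Golay24 Cfsg.Agent.LeechCount.Co3Rank MulAction

noncomputable section

attribute [local irreducible] normFS dotFS

/-- Moved by an element of the subgroup. -/
def Reach (K : Subgroup ↥G2) (x y : Vec) : Prop := ∃ g ∈ K, ap (g : ↥Co0) x = y

theorem Reach.refl (K : Subgroup ↥G2) (x : Vec) : Reach K x x := ⟨1, K.one_mem, ap_one x⟩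

theorem Reach.mem {K : Subgroup ↥G2} {x y : Vec} (hx : x ∈ leechLattice) (h : Reach K x y) :
    y ∈ leechLattice := by
  obtain ⟨g, -, rfl⟩ := h; exact ap_mem _ hx

theorem Reach.trans {K : Subgroup ↥G2} {x y z : Vec} (hx : x ∈ leechLattice) (h : Reach K x y)
    (h' : Reach K y z) : Reach K x z := by
  obtain ⟨g, g1, g2⟩ := h
  obtain ⟨k, k1, k2⟩ := h'
  exact ⟨k * g, K.mul_mem k1 g1, by rw [Subgroup.coe_mul, ap_mul _ _ hx, g2, k2]⟩

/-- The coordinates of a packed code as a list. -/
def lstN (c : ℕ) : List ℤ := (List.range 24).map fun k => (getSlot 4 c k : ℤ) - 8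

theorem vecOf_lstN (c : ℕ) : vecOf (lstN c) = vecN c := by
  rw [lstN, vecOf_range]; rfl

/-- An orbit tree with permutation edges and word edges. -/
def tree2B (gens : List ℕ) (links : List (List Stp)) (P : ℕ) : ℕ → List (ℕ × ℕ) → Bool
  | _, [] => true
  | k, (j, g) :: rest =>
    Nat.blt j k &&
      ((Nat.blt g gens.length && edgeB (gens.getD g 0) (getSlot 96 P j) (getSlot 96 P k)) ||
        (Nat.ble gens.length g && Nat.blt (g - gens.length) links.length &&
          (wL (links.getD (g - gens.length) []) (lstN (getSlot 96 P j)) == lstN (getSlot 96 P k)))) &&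
      tree2B gens links P (k + 1) rest

theorem tree2_reach {K : Subgroup ↥G2} {gens : List ℕ} {links : List (List Stp)}
    (hg : ∀ g ∈ gens, ∃ h : (inM24 g && app g 23 == 23) = true, iota (mEl g h) ∈ K)
    (hl : ∀ w ∈ links, wOk w = true ∧ wEl w ∈ K) {P : ℕ} (h0 : vecN (getSlot 96 P 0) ∈ leechLattice) :
    ∀ (cert : List (ℕ × ℕ)) (k : ℕ), tree2B gens links P k cert = true →
      (∀ i < k, Reach K (vecN (getSlot 96 P 0)) (vecN (getSlot 96 P i))) →
      ∀ i < k + cert.length, Reach K (vecN (getSlot 96 P 0)) (vecN (getSlot 96 P i))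
  | [], k, _, hk, i, hi => hk i (by simpa using hi)
  | (j, g) :: rest, k, h, hk, i, hi => by
    simp only [tree2B, Bool.and_eq_true, Bool.or_eq_true, Nat.blt_eq, Nat.ble_eq] at h
    obtain ⟨⟨hj, he⟩, hr⟩ := h
    have hj' := (hk j hj).mem h0
    have hstep : Reach K (vecN (getSlot 96 P j)) (vecN (getSlot 96 P k)) := by
      rcases he with ⟨hgl, he⟩ | ⟨⟨-, hwl⟩, he⟩
      · obtain ⟨h1, h2⟩ := hg (gens.getD g 0) (by rw [List.getD_eq_getElem _ _ hgl]; exact List.getElem_mem _)
        simp only [Bool.and_eq_true] at h1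
        exact ⟨_, h2, ap_perm_eq h1.1 hj' (vecN_edge h1.1 he)⟩
      · obtain ⟨h1, h2⟩ := hl (links.getD (g - gens.length) [])
          (by rw [List.getD_eq_getElem _ _ hwl]; exact List.getElem_mem _)
        refine ⟨_, h2, ?_⟩
        rw [← vecOf_lstN, ap_wEl h1 (by rw [vecOf_lstN]; exact hj'), beq_iff_eq.1 he, vecOf_lstN]
    have hk' : ∀ i' < k + 1, Reach K (vecN (getSlot 96 P 0)) (vecN (getSlot 96 P i')) := fun i' hi' => by
      rcases Nat.lt_succ_iff_lt_or_eq.1 hi' with h' | rfl
      · exact hk i' h'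
      · exact (hk j hj).trans h0 hstep
    exact tree2_reach hg hl h0 rest (k + 1) hr hk' i (by simp only [List.length_cons] at hi; omega)

/-- All checks for one table. -/
def tabOk (gens : List ℕ) (links : List (List Stp)) (P : ℕ) (tree : List (ℕ × ℕ)) (srt : List ℕ) : Bool :=
  tree2B gens links P 1 tree && (srt.length == tree.length + 1) &&
    (srt.all fun k => Nat.blt k (tree.length + 1) && normB (getSlot 96 P k)) &&
    sortedB (srt.map (getSlot 96 P))

/-- The members of a table. -/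
def tabFS (P : ℕ) (srt : List ℕ) : Finset Vec := (srt.map fun k => vecN (getSlot 96 P k)).toFinset

theorem tab_spec {K : Subgroup ↥G2} {gens : List ℕ} {links : List (List Stp)}
    (hg : ∀ g ∈ gens, ∃ h : (inM24 g && app g 23 == 23) = true, iota (mEl g h) ∈ K)
    (hl : ∀ w ∈ links, wOk w = true ∧ wEl w ∈ K) {P : ℕ} {tree : List (ℕ × ℕ)} {srt : List ℕ}
    (h0 : vecN (getSlot 96 P 0) ∈ leechLattice) (hok : tabOk gens links P tree srt = true) :
    (tabFS P srt).card = tree.length + 1 ∧
      (∀ y ∈ tabFS P srt, Reach K (vecN (getSlot 96 P 0)) y) ∧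
      ∀ k < tree.length + 1, Reach K (vecN (getSlot 96 P 0)) (vecN (getSlot 96 P k)) := by
  simp only [tabOk, Bool.and_eq_true, beq_iff_eq, List.all_eq_true, Nat.blt_eq] at hok
  obtain ⟨⟨⟨ht, hlen⟩, hn⟩, hs⟩ := hok
  have hl' : ∀ k < tree.length + 1, Reach K (vecN (getSlot 96 P 0)) (vecN (getSlot 96 P k)) := fun k hk =>
    tree2_reach hg hl h0 tree 1 ht (fun i hi => by obtain rfl : i = 0 := (by omega); exact Reach.refl _ _) k
      (by omega)
  refine ⟨?_, ?_, hl'⟩
  · have hnd : (srt.map (getSlot 96 P)).Nodup := (sortedB_pairwise hs).imp fun h => Nat.ne_of_lt h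
    rw [tabFS, List.toFinset_card_of_nodup, List.length_map, hlen]
    refine List.Nodup.map_on (fun a ha b hb h => ?_) hnd.of_map
    exact List.inj_on_of_nodup_map hnd ha hb (vecN_injOn (hn a ha).2 (hn b hb).2 h)
  · intro y hy
    rw [tabFS, List.mem_toFinset, List.mem_map] at hy
    obtain ⟨k, hk, rfl⟩ := hy
    exact hl' k (hn k hk).1

/-- Orbit times stabiliser is at most the order. -/
theorem count_le {K S : Subgroup ↥G2} (hS : S ≤ K) {x : Vec} (hx : x ∈ leechLattice)
    (hfix : ∀ s ∈ S, ap (s : ↥Co0) x = x) (F : Finset Vec) (hF : ∀ y ∈ F, Reach K x y) :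
    F.card * Nat.card ↥S ≤ Nat.card ↥K := by
  classical
  have : Finite ↥Co0 := Nat.finite_of_card_ne_zero (by rw [co0_card]; norm_num)
  choose g hgK hgx using fun y : ↥F => hF y.1 y.2
  let φ : ↥F × ↥S → ↥K := fun q => ⟨g q.1 * q.2.1, K.mul_mem (hgK q.1) (hS q.2.2)⟩
  have hφ : Function.Injective φ := by
    rintro ⟨y, s⟩ ⟨z, t⟩ h
    have h1 : g y * s.1 = g z * t.1 := congrArg Subtype.val h
    have hyz : y.1 = z.1 := by
      have := congrArg (fun u : ↥G2 => ap (u : ↥Co0) x) h1
      simp only [Subgroup.coe_mul, ap_mul _ _ hx, hfix _ s.2, hfix _ t.2, hgx] at this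
      exact this
    obtain rfl : y = z := Subtype.ext hyz
    exact Prod.ext rfl (Subtype.ext (mul_left_cancel h1))
  have := Nat.card_le_card_of_injective φ hφ
  rwa [Nat.card_prod, Nat.card_eq_fintype_card, Fintype.card_coe] at this

end

end Cfsg.Agent.LeechCount.Co2Out
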