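import Cfsg.Agent.Lib.LeechCount.Co2Out.Elt
import Cfsg.Agent.Lib.LeechCount.List552

/-!
Words in the point permutations and one automorphism outside the frame stabiliser, evaluated on
lists of coordinates.
-/

set_option autoImplicit false

namespace Cfsg.Agent.LeechCount.Co2Out

open Cfsg Cfsg.Agent.Leech Cfsg.Agent.Golay24 Cfsg.Agent.LeechCount.Co3Rank MulAction
open Cfsg.Agent.LeechCount.Co3Out (ext_e8 permHom24 ap_perm_inv)

noncomputable section

attribute [local irreducible] normFS dotFS

/-- A letter: a packed permutation with its inverse, or the extra involution. -/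
inductive Stp where
  | perm (p q : ℕ)
  | d

/-- The permutation letters fix the extra point and carry their inverses. -/
def Stp.ok : Stp → Bool
  | .perm p q => inM24 p && (app p 23 == 23) && (List.range 24).all fun k => app p (app q k) % 24 == k && Nat.blt (app q k) 24
  | .d => true

/-- The automorphism of a letter. -/
def Stp.el : Stp → ↥G2
  | .perm p _ => if h : (inM24 p && app p 23 == 23) = true then iota (mEl p h) else 1
  | .d => dG

/-- The automorphism of a word, the first letter acting last. -/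
def wEl (w : List Stp) : ↥G2 := (w.map Stp.el).prod

/-- All letters of a word are well formed. -/
def wOk (w : List Stp) : Bool := w.all Stp.ok

/-- Permuted list. -/
def pL (q : ℕ) (l : List ℤ) : List ℤ := (List.range 24).map fun k => l.getD (app q k) 0

/-- Sum over one tetrad. -/
def tsumL (lab : List (Fin 6)) (l : List ℤ) (j : Fin 6) : ℤ :=
  ((List.range 24).map fun k => if lab.getD k 0 = j then l.getD k 0 else 0).sum

/-- The sextet map on lists. -/
def xiL (lab : List (Fin 6)) (l : List ℤ) : List ℤ := (List.range 24).map fun k =>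
  if lab.getD k 0 = 0 then tsumL lab l (lab.getD k 0) / 2 - l.getD k 0
  else l.getD k 0 - tsumL lab l (lab.getD k 0) / 2

/-- Sign change on lists. -/
def sgnL (S : ℕ) (l : List ℤ) : List ℤ :=
  (List.range 24).map fun k => if S.testBit k then -l.getD k 0 else l.getD k 0

/-- The extra involution on lists. -/
def dL (l : List ℤ) : List ℤ := xiL dLab1 (xiL dLab2 (xiL dLab3 (sgnL dSgn (pL dPermInv l))))

/-- A letter on lists. -/
def Stp.onL : Stp → List ℤ → List ℤ
  | .perm _ q, l => pL q l
  | .d, l => dL l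

/-- A word on lists. -/
def wL : List Stp → List ℤ → List ℤ
  | [], l => l
  | s :: w, l => s.onL (wL w l)

theorem tsum_vecOf {lab : List (Fin 6)} (h : sxOk lab) (l : List ℤ) (j : Fin 6) :
    (sxOfList lab h).tsum (vecOf l) j = tsumL lab l j := by
  rw [Sx.tsum, Sx.tet, Finset.sum_filter, ← Equiv.sum_comp Golay24.ptEquiv.symm, tsumL,
    show ((List.range 24).map fun k => if lab.getD k 0 = j then l.getD k 0 else 0) =
      List.ofFn fun k : Fin 24 => if lab.getD k.val 0 = j then l.getD k.val 0 else 0 from ?_, List.sum_ofFn]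
  · refine Finset.sum_congr rfl fun k _ => ?_
    show (if (sxOfList lab h).idx (Golay24.pt k) = j then vecOf l (Golay24.pt k) else 0) = _
    simp [vecOf, sxOfList]
  · refine List.ext_getElem (by rw [List.length_map, List.length_range, List.length_ofFn]) fun n h1 h2 => ?_
    rw [List.getElem_map, List.getElem_range, List.getElem_ofFn]

theorem xi_vecOf {lab : List (Fin 6)} (h : sxOk lab) (l : List ℤ) :
    (sxOfList lab h).xi (vecOf l) = vecOf (xiL lab l) := by
  funext i
  rw [xiL, vecOf_range]
  simp only [Sx.xi, tsum_vecOf]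
  rfl

theorem pL_vecOf {q : ℕ} (hq : ∀ k < 24, app q k < 24) (l : List ℤ) :
    (fun i => vecOf l (appPt q i)) = vecOf (pL q l) := by
  funext i
  rw [pL, vecOf_range]
  simp only [vecOf, appPt, idx_pt, Nat.mod_eq_of_lt (hq _ (idx i).isLt)]

theorem dPermInv_lt : ∀ k < 24, app dPermInv k < 24 := by decide +kernel

theorem dFun_vecOf (l : List ℤ) : dFun (vecOf l) = vecOf (dL l) := by
  have h : (fun i => if i ∈ Golay24.setOf dSgn then -vecOf l (appPt dPermInv i) else vecOf l (appPt dPermInv i)) =
      vecOf (sgnL dSgn (pL dPermInv l)) := by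
    funext i
    rw [sgnL, vecOf_range, congrFun (pL_vecOf dPermInv_lt l) i]
    simp only [mem_setOf, vecOf]
  rw [dFun, h, xi_vecOf, xi_vecOf, xi_vecOf, dL]

theorem Stp.el_perm {p q : ℕ} (h : (Stp.perm p q).ok = true) :
    ∃ h' : (inM24 p && app p 23 == 23) = true, (Stp.perm p q).el = iota (mEl p h') := by
  simp only [Stp.ok, Bool.and_eq_true] at h
  have h' : (inM24 p && app p 23 == 23) = true := by simp [h.1]
  exact ⟨h', dif_pos h'⟩

theorem Stp.ap_el {s : Stp} (hs : s.ok = true) {l : List ℤ} (hl : vecOf l ∈ leechLattice) :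
    ap (s.el : ↥Co0) (vecOf l) = vecOf (s.onL l) := by
  cases s with
  | d => rw [show (Stp.d.el : ↥Co0) = dEl from rfl, ap_dEl hl, dFun_vecOf]; rfl
  | perm p q =>
    obtain ⟨h', he⟩ := Stp.el_perm hs
    simp only [Stp.ok, Bool.and_eq_true, List.all_eq_true, List.mem_range, beq_iff_eq, Nat.blt_eq] at hs
    obtain ⟨⟨hM, -⟩, hpq⟩ := hs
    have hlt : ∀ k < 24, app q k < 24 := fun k hk => (hpq k hk).2
    have hinv : ∀ i, appPt p (appPt q i) = i := fun i => by
      apply idx_inj.1
      apply Fin.ext
      simp only [appPt, idx_pt, Nat.mod_eq_of_lt (hlt _ (idx i).isLt)]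
      exact (hpq _ (idx i).isLt).1
    rw [he, iota_val]
    show ap (permCo (toPerm p) _) (vecOf l) = _
    rw [ap_perm_inv hM hinv hl, pL_vecOf hlt]
    rfl

/-- Evaluation of a word. -/
theorem ap_wEl : ∀ {w : List Stp}, wOk w = true → ∀ {l : List ℤ}, vecOf l ∈ leechLattice →
    ap (wEl w : ↥Co0) (vecOf l) = vecOf (wL w l)
  | [], _, l, _ => ap_one _
  | s :: w, hw, l, hl => by
    simp only [wOk, List.all_cons, Bool.and_eq_true] at hw
    rw [show wEl (s :: w) = s.el * wEl w from List.prod_cons, Subgroup.coe_mul, ap_mul _ _ hl, wL,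
      ap_wEl hw.2 hl]
    exact Stp.ap_el hw.1 (ap_wEl hw.2 hl ▸ ap_mem _ hl)

theorem wEl_nil : wEl [] = 1 := rfl

theorem wEl_append (v w : List Stp) : wEl (v ++ w) = wEl v * wEl w := by
  simp [wEl, List.prod_append]

/-- A repeated word. -/
def wPow (w : List Stp) : ℕ → List Stp
  | 0 => []
  | n + 1 => w ++ wPow w n

theorem wEl_pow (w : List Stp) : ∀ n, wEl (wPow w n) = wEl w ^ n
  | 0 => rfl
  | n + 1 => by rw [wPow, wEl_append, wEl_pow w n, pow_succ']

theorem wOk_pow {w : List Stp} (hw : wOk w = true) : ∀ n, wOk (wPow w n) = true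
  | 0 => rfl
  | n + 1 => by simp only [wPow, wOk, List.all_append, Bool.and_eq_true]; exact ⟨hw, wOk_pow hw n⟩

/-- The coordinate vector as a list. -/
def e8L (k : ℕ) : List ℤ := (List.range 24).map fun j => if j = k then 8 else 0

theorem e8L_eq (i : GolayPt) : vecOf (e8L (idx i).val) = e8 i := by
  rw [e8L, vecOf_range]
  funext j
  simp only [e8, Fin.val_inj, idx_inj]

theorem e8L_mem (i : GolayPt) : vecOf (e8L (idx i).val) ∈ leechLattice := e8L_eq i ▸ e8_mem i

/-- Two words agree when they agree on the coordinate vectors. -/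
def wEqB (v w : List Stp) : Bool := wOk v && wOk w && (List.range 24).all fun k => wL v (e8L k) == wL w (e8L k)

theorem wEl_eq {v w : List Stp} (h : wEqB v w = true) : wEl v = wEl w := by
  simp only [wEqB, Bool.and_eq_true, List.all_eq_true, List.mem_range, beq_iff_eq] at h
  obtain ⟨⟨hv, hw⟩, he⟩ := h
  refine Subtype.ext (ext_e8 fun i => ?_)
  rw [← e8L_eq, ap_wEl hv (e8L_mem i), ap_wEl hw (e8L_mem i), he _ (idx i).isLt]

/-- A word moves one coordinate vector. -/
def wMoveB (w : List Stp) (k : ℕ) : Bool := wOk w && Nat.blt k 24 && (wL w (e8L k) != e8L k)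

theorem wL_length (w : List Stp) {l : List ℤ} (hl : l.length = 24) : (wL w l).length = 24 := by
  cases w with
  | nil => exact hl
  | cons s w => cases s <;> simp [wL, Stp.onL, pL, dL, xiL]

theorem wEl_ne_one {w : List Stp} {k : ℕ} (h : wMoveB w k = true) : wEl w ≠ 1 := by
  simp only [wMoveB, Bool.and_eq_true, Nat.blt_eq, bne_iff_ne] at h
  obtain ⟨⟨hw, hk⟩, hne⟩ := h
  intro he
  apply hne
  have e := ap_wEl hw (e8L_mem (ptN k))
  rw [he, show ((1 : ↥G2) : ↥Co0) = 1 from rfl, ap_one, idx_ptN hk] at e
  exact (vecOf_inj (wL_length w (by simp [e8L])) (by simp [e8L]) e.symm)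

end

end Cfsg.Agent.LeechCount.Co2Out
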